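import Mathlib.RingTheory.GradedAlgebra.Basic
import Mathlib.Algebra.Module.GradedModule
import Mathlib.RingTheory.GradedAlgebra.Homogeneous.Ideal
import Mathlib.Tactic.Abel
import Mathlib.RingTheory.Finiteness.Defs

/-! Homogeneous components of products in `ℕ`-graded modules. -/

set_option autoImplicit false

universe u v w

namespace Groth.Agent.GrNakLib

variable {R : Type u} {S : Type v} {M : Type w} [CommRing R] [CommRing S] [Algebra R S]
  (𝒜 : ℕ → Submodule R S) [GradedAlgebra 𝒜] [AddCommGroup M] [Module R M] [Module S M]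
  (ℳ : ℕ → Submodule R M) [DirectSum.Decomposition ℳ] [SetLike.GradedSMul 𝒜 ℳ]

open DirectSum

/-- A component of `c • y` lies in `Q` as soon as all contributing products do. -/
theorem decompose_smul_mem {σ : Type*} [SetLike σ M] [AddSubmonoidClass σ M] (Q : σ) (d : ℕ) (c : S) (y : M)
    (h : ∀ i j, i + j = d → (decompose 𝒜 c i : S) • (decompose ℳ y j : M) ∈ Q) :
    (decompose ℳ (c • y) d : M) ∈ Q := by
  classical
  have e : c • y = ∑ i ∈ (decompose 𝒜 c).support, ∑ j ∈ (decompose ℳ y).support,
      (decompose 𝒜 c i : S) • (decompose ℳ y j : M) := by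
    conv_lhs => rw [← sum_support_decompose 𝒜 c, Finset.sum_smul]
    refine Finset.sum_congr rfl fun i _ => ?_
    rw [← Finset.smul_sum, sum_support_decompose ℳ y]
  rw [e, decompose_sum, DFinsupp.finset_sum_apply, AddSubmonoidClass.coe_finset_sum]
  refine sum_mem fun i _ => ?_
  rw [decompose_sum, DFinsupp.finset_sum_apply, AddSubmonoidClass.coe_finset_sum]
  refine sum_mem fun j _ => ?_
  have hm : (decompose 𝒜 c i : S) • (decompose ℳ y j : M) ∈ ℳ (i + j) :=
    SetLike.GradedSMul.smul_mem (A := 𝒜) (B := ℳ) (SetLike.coe_mem (decompose 𝒜 c i)) (SetLike.coe_mem (decompose ℳ y j))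
  by_cases hij : i + j = d
  · subst hij
    rw [decompose_of_mem_same ℳ hm]
    exact h i j rfl
  · rw [decompose_of_mem_ne ℳ hm hij]
    exact zero_mem _

include 𝒜 in
/-- The span of homogeneous elements contains the components of its elements. -/
theorem decompose_mem_span (X : Set M) (hX : ∀ x ∈ X, SetLike.IsHomogeneousElem ℳ x) {y : M}
    (hy : y ∈ Submodule.span S X) : ∀ d, (decompose ℳ y d : M) ∈ Submodule.span S X := by
  induction hy using Submodule.span_induction with
  | mem x hx =>
    intro d
    obtain ⟨e, he⟩ := hX x hx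
    by_cases hed : e = d
    · subst hed
      rw [decompose_of_mem_same ℳ he]
      exact Submodule.subset_span hx
    · rw [decompose_of_mem_ne ℳ he hed]
      exact zero_mem _
  | zero => intro d; simp
  | add a b _ _ ha hb =>
    intro d
    rw [decompose_add, DirectSum.add_apply, Submodule.coe_add]
    exact add_mem (ha d) (hb d)
  | smul c a _ ha =>
    intro d
    exact decompose_smul_mem 𝒜 ℳ _ d c a fun i j _ => Submodule.smul_mem _ _ (ha j)

/-- Graded Nakayama. -/
theorem span_eq_top (X : Set M) (hX : ∀ x ∈ X, SetLike.IsHomogeneousElem ℳ x)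
    (h : Submodule.span S X ⊔ (HomogeneousIdeal.irrelevant 𝒜).toIdeal • (⊤ : Submodule S M) = ⊤) :
    Submodule.span S X = ⊤ := by
  classical
  set N := Submodule.span S X
  have key : ∀ d (y : M), (decompose ℳ y d : M) ∈ N := by
    intro d
    induction d using Nat.strong_induction_on with
    | _ d ih =>
      intro y
      have hy : y ∈ N ⊔ (HomogeneousIdeal.irrelevant 𝒜).toIdeal • (⊤ : Submodule S M) := by rw [h]; exact Submodule.mem_top
      obtain ⟨a, ha, b, hb, rfl⟩ := Submodule.mem_sup.1 hy
      rw [decompose_add, DirectSum.add_apply, Submodule.coe_add]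
      refine add_mem (decompose_mem_span 𝒜 ℳ X hX ha d) ?_
      induction hb using Submodule.smul_induction_on' with
      | smul c hc z _ =>
        refine decompose_smul_mem 𝒜 ℳ _ d c z fun i j hij => ?_
        rcases Nat.eq_zero_or_pos i with rfl | hi
        · have h0 : GradedRing.proj 𝒜 0 c = 0 := (HomogeneousIdeal.mem_irrelevant_iff 𝒜 c).1 hc
          rw [GradedRing.proj_apply] at h0
          rw [h0, zero_smul]
          exact zero_mem _
        · exact Submodule.smul_mem _ _ (ih j (by omega) z)
      | add u _ v _ hu hv =>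
        rw [decompose_add, DirectSum.add_apply, Submodule.coe_add]
        exact add_mem (hu (by rw [h]; exact Submodule.mem_top)) (hv (by rw [h]; exact Submodule.mem_top))
  rw [eq_top_iff]
  rintro y -
  rw [← sum_support_decompose ℳ y]
  exact sum_mem fun d _ => key d y

/-- Homogeneous components of finitely many generators generate. -/
theorem exists_homogeneous_generators [Module.Finite S M] :
    ∃ F : Finset (ℕ × M), (∀ x ∈ F, x.2 ∈ ℳ x.1) ∧ Submodule.span S (Prod.snd '' (F : Set (ℕ × M))) = ⊤ := by
  classical
  obtain ⟨G, hG⟩ := Module.Finite.fg_top (R := S) (M := M)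
  refine ⟨G.biUnion fun g => (decompose ℳ g).support.image fun d => (d, (decompose ℳ g d : M)), ?_, ?_⟩
  · intro x hx
    simp only [Finset.mem_biUnion, Finset.mem_image] at hx
    obtain ⟨g, -, d, -, rfl⟩ := hx
    exact SetLike.coe_mem _
  · rw [eq_top_iff, ← hG, Submodule.span_le]
    intro g hg
    rw [SetLike.mem_coe, ← sum_support_decompose ℳ g]
    refine sum_mem fun d hd => Submodule.subset_span ⟨(d, _), ?_, rfl⟩
    simp only [Finset.mem_coe, Finset.mem_biUnion, Finset.mem_image]
    exact ⟨g, hg, d, hd, rfl⟩

end Groth.Agent.GrNakLib
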